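import Groth.Agent.RGammaI.FiniteDegree
import Groth.Agent.KFlatLib.Ring.FiniteShriek
import Groth.Agent.KFlatLib.Ring.DualizingFlat
import Groth.Agent.RGammaI.DualRows
import Groth.Agent.H9Misc.Split

/-!
# Triangles for the dualizing complex of a quotient ring
-/

set_option linter.style.haveILetI false
set_option backward.isDefEq.respectTransparency false

universe u

open CategoryTheory CategoryTheory.Limits Pretriangulated

attribute [local instance] HasDerivedCategory.standard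

namespace Groth.Agent.H6Dual

open KFlatLib

variable {A : Type u} [CommRing A] [DTen.HasLTen A] [DTen.HasRHom A] [DTen.HasLTen₃ A]
  [DTen.IsSymMonoidal A]

/-- Derived hom out of the ring is the identity. -/
lemma nonempty_RHom_inD_ring (L : Dual.D A) :
    Nonempty ((DTen.RHomR A (Dual.inD A A)).obj L ≅ L) := by
  obtain ⟨r⟩ := nonempty_RHomR_unit_iso (A := A) 0
  exact ⟨(((DTen.RHom A).mapIso ((shiftFunctorZero (Dual.D A) ℤ).app (DTen.unit A)).op).app L) ≪≫
    r.app L ≪≫ (shiftFunctorZero' (Dual.D A) (-(0 : ℤ)) neg_zero).app L⟩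

/-- The right adjoint of restriction to a quotient, restricted, is derived hom out of the quotient. -/
lemma nonempty_res_quot_iso (I : Ideal A) (R : Dual.D A ⥤ Dual.D (A ⧸ I))
    (adj : DRing.restrictD (Ideal.Quotient.mk I) ⊣ R) (L : Dual.D A) :
    Nonempty ((DRing.restrictD (Ideal.Quotient.mk I)).obj (R.obj L) ≅
      (DTen.RHomR A (Dual.inD A (A ⧸ I))).obj L) := by
  obtain ⟨γ⟩ := nonempty_res_shriek_iso (Ideal.Quotient.mk I) R adj
  obtain ⟨e⟩ := nonempty_resUnit_iso A (A ⧸ I)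
  exact ⟨γ.app L ≪≫ ((DTen.RHom A).mapIso e.op).app L⟩

/-- The triangle of a quotient by a regular element. -/
theorem exists_triangle_quot_nzd (ω : Dual.D A) (f : A) (hf' : f ∈ nonZeroDivisors A)
    (R : Dual.D A ⥤ Dual.D (A ⧸ Ideal.span {f}))
    (adj : DRing.restrictD (Ideal.Quotient.mk (Ideal.span {f})) ⊣ R) :
    ∃ (u : (DRing.restrictD (Ideal.Quotient.mk (Ideal.span {f}))).obj (R.obj ω) ⟶ ω)
      (w : ω ⟶ ((DRing.restrictD (Ideal.Quotient.mk (Ideal.span {f}))).obj (R.obj ω))⟦(1 : ℤ)⟧),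
      Triangle.mk u (f • 𝟙 ω) w ∈ distinguishedTriangles := by
  let C : ShortComplex (ModuleCat.{u} A) :=
    ShortComplex.mk (f • 𝟙 (ModuleCat.of A A)) (ModuleCat.ofHom (Submodule.mkQ (Ideal.span {f})))
      (ModuleCat.hom_ext (LinearMap.ext fun z => (Submodule.Quotient.mk_eq_zero _).2
        (Ideal.mem_span_singleton'.2 ⟨z, mul_comm z f⟩)))
  have hC : C.ShortExact :=
    { exact := (ShortComplex.moduleCat_exact_iff _).2 fun z hz => by
        obtain ⟨y, hy⟩ := Ideal.mem_span_singleton'.1 ((Submodule.Quotient.mk_eq_zero _).1 hz)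
        exact ⟨y, by
          change f * y = z
          rw [← hy, mul_comm]⟩
      mono_f := (ModuleCat.mono_iff_injective _).2
        ((injective_iff_map_eq_zero _).2 fun y (hy : f * y = 0) =>
          mul_left_mem_nonZeroDivisors_eq_zero_iff hf' |>.1 hy)
      epi_g := (ModuleCat.epi_iff_surjective _).2 (Submodule.mkQ_surjective _) }
  obtain ⟨c, hc⟩ := exists_triangle_RHomMap _ hC.singleTriangle_distinguished ω
  have hmor : hC.singleTriangle.mor₁ = f • 𝟙 (Dual.inD A A) := by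
    show (DerivedCategory.singleFunctor (ModuleCat.{u} A) 0).map (f • 𝟙 (ModuleCat.of A A)) = _
    rw [Functor.map_smul, CategoryTheory.Functor.map_id]
  have hm : DTen.RHomMap hC.singleTriangle.mor₁ ω = f • 𝟙 _ :=
    (congrArg (fun t => DTen.RHomMap t ω) hmor).trans
      (RGammaI.FiniteDegree.RHomMap_smul_id f _ _)
  obtain ⟨r⟩ := nonempty_RHom_inD_ring (A := A) ω
  obtain ⟨e⟩ := nonempty_res_quot_iso (Ideal.span {f}) R adj ω
  refine ⟨e.hom ≫ DTen.RHomMap hC.singleTriangle.mor₂ ω ≫ r.hom, r.inv ≫ c ≫ e.inv⟦(1 : ℤ)⟧',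
    isomorphic_distinguished _ hc _ ?_⟩
  refine Triangle.isoMk _ _ e r.symm r.symm ?_ ?_ ?_
  · simp
  · change (f • 𝟙 ω) ≫ r.inv = r.inv ≫ DTen.RHomMap hC.singleTriangle.mor₁ ω
    rw [hm, Linear.smul_comp, Category.id_comp, Linear.comp_smul]
    exact congrArg (f • ·) (Category.comp_id _).symm
  · simp [← Functor.map_comp]

/-- Derived hom from a finite length module to the normalized dualizing complex. -/
theorem nonempty_RHom_finiteLength [IsNoetherianRing A] [IsLocalRing A] {ω : Dual.D A}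
    (hω : Dual.IsDualizing A ω) (hn : Dual.IsNormalized A ω) {E : Type u} [AddCommGroup E]
    [Module A E] {e : IsLocalRing.ResidueField A →ₗ[A] E} (he : InjHull.IsInjectiveHull e)
    (N : Type u) [AddCommGroup N] [Module A N] (hN : IsFiniteLength A N) :
    Nonempty ((DTen.RHomR A (Dual.inD A N)).obj ω ≅ Dual.inD A (N →ₗ[A] E)) := by
  obtain ⟨hz, ⟨d⟩⟩ := RGammaI.finiteLength_duality hω hn he N hN
  let Z := (DTen.RHomR A (Dual.inD A N)).obj ω
  have h0 : ∀ i : ℤ, i ≠ 0 →
      IsZero ((DerivedCategory.homologyFunctor (ModuleCat.{u} A) i).obj Z) := fun i hi => by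
    obtain ⟨q⟩ := exists_hdRHomShiftLEquiv (Dual.inD A N) ω i
    haveI := hz i hi
    haveI : Subsingleton ↥((DerivedCategory.homologyFunctor (ModuleCat.{u} A) i).obj Z) :=
      q.toEquiv.subsingleton
    exact ModuleCat.isZero_of_subsingleton _
  haveI : Z.IsLE 0 := (DerivedCategory.isLE_iff _ _).2 fun i hi => h0 i (by omega)
  haveI : Z.IsGE 0 := (DerivedCategory.isGE_iff _ _).2 fun i hi => h0 i (by omega)
  obtain ⟨u⟩ := H9Misc.nonempty_iso_single_homology 0 Z
  obtain ⟨q⟩ := exists_hdRHomShiftLEquiv (Dual.inD A N) ω 0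
  let z : (Dual.inD A N ⟶ ω⟦(0 : ℤ)⟧) ≃ₗ[A] (Dual.inD A N ⟶ ω) :=
    Linear.homCongr A (Iso.refl _) ((shiftFunctorZero (Dual.D A) ℤ).app ω)
  exact ⟨u ≪≫ (DerivedCategory.singleFunctor (ModuleCat.{u} A) 0).mapIso
    (LinearEquiv.toModuleIso ((q.trans z).trans d))⟩

/-- The triangle of a quotient by an ideal of finite length. -/
theorem exists_triangle_quot_finiteLength [IsNoetherianRing A] [IsLocalRing A] {ω : Dual.D A}
    (hω : Dual.IsDualizing A ω) (hn : Dual.IsNormalized A ω) (I : Ideal A) (hIl : IsFiniteLength A I)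
    {E : Type u} [AddCommGroup E]
    [Module A E] {e : IsLocalRing.ResidueField A →ₗ[A] E} (he : InjHull.IsInjectiveHull e)
    (R : Dual.D A ⥤ Dual.D (A ⧸ I)) (adj : DRing.restrictD (Ideal.Quotient.mk I) ⊣ R) :
    ∃ (u : (DRing.restrictD (Ideal.Quotient.mk I)).obj (R.obj ω) ⟶ ω)
      (v : ω ⟶ Dual.inD A (I →ₗ[A] E))
      (w : Dual.inD A (I →ₗ[A] E) ⟶ ((DRing.restrictD (Ideal.Quotient.mk I)).obj (R.obj ω))⟦(1 : ℤ)⟧),
      Triangle.mk u v w ∈ distinguishedTriangles := by
  let C : ShortComplex (ModuleCat.{u} A) :=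
    ShortComplex.mk (ModuleCat.ofHom (Submodule.subtype I)) (ModuleCat.ofHom (Submodule.mkQ I))
      (ModuleCat.hom_ext (LinearMap.ext fun z => (Submodule.Quotient.mk_eq_zero _).2 z.2))
  have hC : C.ShortExact :=
    { exact := (ShortComplex.moduleCat_exact_iff _).2 fun z hz =>
        ⟨⟨z, (Submodule.Quotient.mk_eq_zero _).1 hz⟩, rfl⟩
      mono_f := (ModuleCat.mono_iff_injective _).2 Subtype.val_injective
      epi_g := (ModuleCat.epi_iff_surjective _).2 (Submodule.mkQ_surjective _) }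
  obtain ⟨c, hc⟩ := exists_triangle_RHomMap _ hC.singleTriangle_distinguished ω
  obtain ⟨r⟩ := nonempty_RHom_inD_ring (A := A) ω
  obtain ⟨s⟩ := nonempty_RHom_finiteLength hω hn he I hIl
  obtain ⟨q⟩ := nonempty_res_quot_iso I R adj ω
  refine ⟨q.hom ≫ DTen.RHomMap hC.singleTriangle.mor₂ ω ≫ r.hom,
    r.inv ≫ DTen.RHomMap hC.singleTriangle.mor₁ ω ≫ s.hom, s.inv ≫ c ≫ q.inv⟦(1 : ℤ)⟧',
    isomorphic_distinguished _ hc _ ?_⟩
  refine Triangle.isoMk _ _ q r.symm s.symm ?_ ?_ ?_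
  · simp
  · simp
  · simp [← Functor.map_comp]

end Groth.Agent.H6Dual
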